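import Mathlib

/-!
# Finiteness through decompositions into open and closed pieces
-/

set_option autoImplicit false
universe u

open CategoryTheory Limits AlgebraicGeometry TopologicalSpace

namespace TwConstLib

/-- A finite union of disjoint opens finite over the base is finite over it. -/
theorem isFinite_biSup {Z T : Scheme.{u}} (h : Z ⟶ T) {J : Type u} (V : J → Z.Opens)
    (hd : ∀ i j, i ≠ j → Disjoint (V i) (V j)) (hV : ∀ i, IsFinite ((V i).ι ≫ h)) (s : Finset J) :
    IsFinite ((s.sup V).ι ≫ h) := by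
  classical
  induction s using Finset.induction_on with
  | empty =>
    haveI : IsEmpty ↥((∅ : Finset J).sup V : Z.Opens) := by
      rw [Finset.sup_empty]; exact ⟨fun a => a.2⟩
    haveI : IsEmpty (((∅ : Finset J).sup V : Z.Opens) : Scheme.{u}) := this
    infer_instance
  | insert a s ha ih =>
    let W := (insert a s).sup V
    have h1 : V a ≤ W := Finset.le_sup (Finset.mem_insert_self a s)
    have h2 : s.sup V ≤ W := Finset.sup_mono (Finset.subset_insert a s)
    let f := Z.homOfLE h1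
    let g := Z.homOfLE h2
    have hdis : Disjoint (V a) (s.sup V) :=
      Finset.disjoint_sup_right.mpr fun i hi => hd a i fun e => ha (e ▸ hi)
    have hW : W = V a ⊔ s.sup V := Finset.sup_insert
    have hf : f.opensRange = W.ι ⁻¹ᵁ V a := Scheme.opensRange_homOfLE h1
    have hg : g.opensRange = W.ι ⁻¹ᵁ s.sup V := Scheme.opensRange_homOfLE h2
    have hc : IsCompl f.opensRange g.opensRange := by
      rw [hf, hg]
      refine ⟨?_, ?_⟩
      · rw [disjoint_iff, ← Scheme.Hom.preimage_inf, disjoint_iff.mp hdis]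
        rfl
      · rw [codisjoint_iff, ← Scheme.Hom.preimage_sup, ← hW, Scheme.Opens.ι_preimage_self]
    obtain ⟨hcol⟩ := nonempty_isColimit_binaryCofanMk_of_isCompl f g hc
    let e := IsColimit.coconePointUniqueUpToIso (colimit.isColimit (pair (V a : Scheme.{u}) (s.sup V : Z.Opens))) hcol
    haveI := ih
    haveI := hV a
    have he : e.hom ≫ W.ι ≫ h = coprod.desc ((V a).ι ≫ h) ((s.sup V).ι ≫ h) := by
      refine coprod.hom_ext ?_ ?_
      · rw [coprod.inl_desc, ← Category.assoc, show coprod.inl ≫ e.hom = f from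
          IsColimit.comp_coconePointUniqueUpToIso_hom _ hcol ⟨WalkingPair.left⟩]
        exact Scheme.homOfLE_ι_assoc ..
      · rw [coprod.inr_desc, ← Category.assoc, show coprod.inr ≫ e.hom = g from
          IsColimit.comp_coconePointUniqueUpToIso_hom _ hcol ⟨WalkingPair.right⟩]
        exact Scheme.homOfLE_ι_assoc ..
    have key : IsFinite (e.inv ≫ coprod.desc ((V a).ι ≫ h) ((s.sup V).ι ≫ h)) := inferInstance
    rw [← he, e.inv_hom_id_assoc] at key
    exact key

/-- A morphism with a decomposition into pieces finite over the base, locally finitely many, is finite. -/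
theorem isFinite_of_locallyFinite {Z T : Scheme.{u}} (h : Z ⟶ T) {I : Type u} (W : I → Z.Opens)
    (hcov : ∀ z : Z, ∃ i, z ∈ W i) (hd : ∀ i j, i ≠ j → Disjoint (W i) (W j))
    (hW : ∀ i, IsFinite ((W i).ι ≫ h))
    (hloc : ∀ t : T, ∃ U : T.Opens, t ∈ U ∧ Set.Finite {i | ∃ z ∈ W i, h z ∈ U}) :
    IsFinite h := by
  choose U hU hfin using hloc
  refine IsZariskiLocalAtTarget.of_iSup_eq_top (P := @IsFinite) U ?_ fun t => ?_
  · exact top_le_iff.mp fun t _ => Opens.mem_iSup.mpr ⟨t, hU t⟩
  let Z' := h ⁻¹ᵁ U t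
  let V : I → (Z' : Scheme.{u}).Opens := fun i => Z'.ι ⁻¹ᵁ W i
  have hV : ∀ i, IsFinite ((V i).ι ≫ h ∣_ U t) := fun i => by
    haveI := hW i
    haveI : IsFinite (((W i).ι ≫ h) ∣_ U t) := inferInstance
    rw [morphismRestrict_comp] at this
    let a := (W i).ι ∣_ (h ⁻¹ᵁ U t)
    have hr : Set.range (V i).ι.base = Set.range a.base := by
      rw [Scheme.Opens.range_ι]
      ext z
      constructor
      · intro hz
        refine ⟨⟨⟨z.1, hz⟩, z.2⟩, Subtype.ext ?_⟩
        exact congrArg (fun φ => φ.base ⟨⟨z.1, hz⟩, z.2⟩) (morphismRestrict_ι (W i).ι (h ⁻¹ᵁ U t))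
      · rintro ⟨w, rfl⟩
        show (Z'.ι (a w)) ∈ W i
        rw [← Scheme.Hom.comp_apply, morphismRestrict_ι, Scheme.Hom.comp_apply]
        exact w.1.2
    rw [← IsOpenImmersion.isoOfRangeEq_hom_fac (V i).ι a hr, Category.assoc]
    haveI : IsFinite (a ≫ h ∣_ U t) := this
    infer_instance
  have htop : ((hfin t).toFinset.sup V) = ⊤ := top_le_iff.mp fun z _ => by
    obtain ⟨i, hi⟩ := hcov z.1
    exact (Finset.le_sup (f := V) ((hfin t).mem_toFinset.mpr ⟨z.1, hi, z.2⟩)) hi
  have hfinal := isFinite_biSup (h ∣_ U t) V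
    (fun i j hij => disjoint_iff.mpr (by
      show Z'.ι ⁻¹ᵁ W i ⊓ Z'.ι ⁻¹ᵁ W j = ⊥
      rw [← Scheme.Hom.preimage_inf, disjoint_iff.mp (hd i j hij)]; rfl)) hV (hfin t).toFinset
  rw [htop] at hfinal
  haveI : IsIso (⊤ : (Z' : Scheme.{u}).Opens).ι := inferInstanceAs (IsIso (Scheme.topIso (Z' : Scheme.{u})).hom)
  exact (MorphismProperty.cancel_left_of_respectsIso @IsFinite (⊤ : (Z' : Scheme.{u}).Opens).ι _).mp hfinal

end TwConstLib
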