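import Mathlib
import Groth.Prelude.Def_TwC
import Groth.Agent.TwConstLib.Finite
import Groth.Agent.AlgSpLib.AffineFpqc

/-!
# Closed subschemes of twisted constant schemes
-/

set_option autoImplicit false
universe u

open CategoryTheory Limits AlgebraicGeometry TopologicalSpace

namespace TwConstLib

variable {T : Scheme.{u}} {I : Type u}

theorem mem_range_sigmaι (p : (∐ fun _ : I => T : Scheme.{u})) :
    ∃ i, p ∈ (Sigma.ι (fun _ : I => T) i).opensRange := by
  obtain ⟨⟨i, x⟩, rfl⟩ := (sigmaMk (fun _ : I => T)).surjective p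
  exact ⟨i, x, (sigmaMk_mk (fun _ : I => T) i x).symm⟩

/-- The part of a closed subscheme of a constant scheme in one copy is finite over the base. -/
theorem isFinite_piece {Z : Scheme.{u}} (z : Z ⟶ ∐ fun _ : I => T) [IsClosedImmersion z] (i : I) :
    IsFinite ((z ⁻¹ᵁ (Sigma.ι (fun _ : I => T) i).opensRange).ι ≫ z ≫ Sigma.desc fun _ => 𝟙 T) := by
  rw [← Category.assoc, ← morphismRestrict_ι, Category.assoc]
  let s := Sigma.ι (fun _ : I => T) i
  haveI : IsIso (s.opensRange.ι ≫ Sigma.desc fun _ : I => 𝟙 T) := by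
    have e : s.opensRange.ι ≫ Sigma.desc (fun _ : I => 𝟙 T) = s.isoOpensRange.inv := by
      rw [← Iso.cancel_iso_hom_left s.isoOpensRange, Scheme.Hom.isoOpensRange_hom_ι_assoc, Iso.hom_inv_id]
      exact Sigma.ι_desc _ _
    rw [e]
    infer_instance
  infer_instance

/-- A closed subscheme of a constant scheme, quasi-compact over the base, is finite over it. -/
theorem isFinite_of_closed_const {Z : Scheme.{u}} (z : Z ⟶ ∐ fun _ : I => T) [IsClosedImmersion z]
    [QuasiCompact (z ≫ Sigma.desc fun _ => 𝟙 T)] : IsFinite (z ≫ Sigma.desc fun _ => 𝟙 T) := by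
  let W : I → Z.Opens := fun i => z ⁻¹ᵁ (Sigma.ι (fun _ : I => T) i).opensRange
  have hd : ∀ i j, i ≠ j → Disjoint (W i) (W j) := fun i j hij => disjoint_iff.mpr (by
    show z ⁻¹ᵁ _ ⊓ z ⁻¹ᵁ _ = ⊥
    rw [← Scheme.Hom.preimage_inf, disjoint_iff.mp (disjoint_opensRange_sigmaι _ i j hij)]; rfl)
  have hcov : ∀ p : Z, ∃ i, p ∈ W i := fun p => mem_range_sigmaι (z p)
  refine isFinite_of_locallyFinite _ W hcov hd (isFinite_piece z) fun t => ?_
  obtain ⟨_, ⟨U, hU, rfl⟩, htU, -⟩ := T.isBasis_affineOpens.exists_subset_of_mem_open (Set.mem_univ t) isOpen_univ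
  refine ⟨U, htU, ?_⟩
  obtain ⟨J, hJ⟩ := ((z ≫ Sigma.desc fun _ => 𝟙 T).isCompact_preimage
    (IsAffineOpen.isCompact hU)).elim_finite_subcover (fun i => (W i : Set Z)) (fun i => (W i).isOpen)
    fun p _ => Set.mem_iUnion.mpr (hcov p)
  refine J.finite_toSet.subset fun i hi => ?_
  obtain ⟨p, hp, hpU⟩ := hi
  obtain ⟨j, hj, hpj⟩ := Set.mem_iUnion₂.mp (hJ hpU)
  by_contra hne
  exact Set.disjoint_left.mp (Opens.coe_disjoint.mpr (hd i j fun e => hne (e ▸ hj))) hp hpj

/-- Closed subschemes of fpqc twisted constant schemes, quasi-compact over the base, are finite over it. -/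
theorem isFinite_of_closed_twConst {S : Scheme.{u}} (R : Over S) (hR : TwC.IsTwConst TwC.Topology.fpqc R)
    {Z : Scheme.{u}} (z : Z ⟶ R.left) [IsClosedImmersion z] [QuasiCompact (z ≫ R.hom)] :
    IsFinite (z ≫ R.hom) := by
  obtain ⟨S', f, hflat, hsurj, hcov, hloc⟩ := hR
  choose U hsU hUc using hloc
  have hpc : ∀ s', IsFinite (pullback.snd (z ≫ R.hom) ((U s').ι ≫ f)) := fun s' => by
    obtain ⟨I, ⟨e⟩⟩ := hUc s'
    let k := (U s').ι ≫ f
    let a : pullback (z ≫ R.hom) k ⟶ pullback R.hom k :=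
      pullback.lift (pullback.fst _ _ ≫ z) (pullback.snd _ _) (by rw [Category.assoc]; exact pullback.condition)
    have sq : IsPullback (pullback.fst (z ≫ R.hom) k) a z (pullback.fst R.hom k) := by
      refine IsPullback.of_bot ?_ (pullback.lift_fst _ _ _).symm (IsPullback.of_hasPullback R.hom k)
      rw [pullback.lift_snd]
      exact IsPullback.of_hasPullback _ _
    haveI : IsClosedImmersion a := MorphismProperty.of_isPullback sq inferInstance
    let el : pullback R.hom k ≅ _ := (Over.forget _).mapIso e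
    have hw : el.hom ≫ (Sigma.desc fun _ : I => 𝟙 ((U s') : Scheme.{u})) = pullback.snd R.hom k := Over.w e.hom
    have hcomp : (a ≫ el.hom) ≫ (Sigma.desc fun _ : I => 𝟙 ((U s') : Scheme.{u})) = pullback.snd (z ≫ R.hom) k := by
      rw [Category.assoc, hw, pullback.lift_snd]
    let c : pullback (z ≫ R.hom) k ⟶ ∐ fun _ : I => ((U s') : Scheme.{u}) := a ≫ el.hom
    haveI : IsClosedImmersion c := MorphismProperty.comp_mem (W := @IsClosedImmersion) a el.hom ‹_›
      (inferInstanceAs (IsClosedImmersion el.hom))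
    have hc : c ≫ (Sigma.desc fun _ : I => 𝟙 ((U s') : Scheme.{u})) = pullback.snd (z ≫ R.hom) k := hcomp
    haveI : QuasiCompact (c ≫ (Sigma.desc fun _ : I => 𝟙 ((U s') : Scheme.{u}))) := by
      rw [hc]; infer_instance
    rw [← hc]
    exact isFinite_of_closed_const c
  haveI hS' : IsFinite (pullback.snd (z ≫ R.hom) f) := by
    refine IsZariskiLocalAtTarget.of_iSup_eq_top (P := @IsFinite) U
      (top_le_iff.mp fun s _ => Opens.mem_iSup.mpr ⟨s, hsU s⟩) fun s' => ?_
    have sq := (isPullback_morphismRestrict (pullback.snd (z ≫ R.hom) f) (U s')).flip.paste_horiz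
      (IsPullback.of_hasPullback (z ≫ R.hom) f)
    rw [← sq.isoPullback_hom_snd]
    haveI := hpc s'
    infer_instance
  refine IsZariskiLocalAtTarget.of_iSup_eq_top (P := @IsFinite) (fun V : S.affineOpens => (V : S.Opens))
    (iSup_affineOpens_eq_top S) fun V => ?_
  obtain ⟨W, hW, hWV⟩ := hcov V V.2
  have hWle : W ≤ f ⁻¹ᵁ (V : S.Opens) := fun w hw => hWV.subset ⟨w, hw, rfl⟩
  let g := f.resLE (V : S.Opens) W hWle
  haveI : IsAffine ((V : S.Opens) : Scheme.{u}) := V.2
  haveI : CompactSpace (W : Scheme.{u}) := isCompact_iff_compactSpace.mp hW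
  haveI : Flat g := by
    haveI := hflat
    exact IsZariskiLocalAtSource.resLE _ ‹Flat f›
  haveI : Surjective g := ⟨fun v => by
    obtain ⟨w, hw, hwv⟩ := hWV.superset v.2
    refine ⟨⟨w, hw⟩, Subtype.ext ?_⟩
    show (V : S.Opens).ι (g ⟨w, hw⟩) = v.1
    rw [← Scheme.Hom.comp_apply, Scheme.Hom.resLE_comp_ι]
    exact hwv⟩
  haveI : QuasiCompact g := (quasiCompact_iff_compactSpace g).mpr ‹_›
  refine MorphismProperty.of_isPullback_of_descendsAlong (P := @IsFinite) (Q := @Surjective ⊓ @Flat ⊓ @QuasiCompact)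
    (IsPullback.of_hasPullback g ((z ≫ R.hom) ∣_ (V : S.Opens))) ⟨⟨‹_›, ‹_›⟩, ‹_›⟩ ?_
  have sq := (IsPullback.of_hasPullback g ((z ≫ R.hom) ∣_ (V : S.Opens))).flip.paste_horiz
    (isPullback_morphismRestrict (z ≫ R.hom) (V : S.Opens)).flip
  rw [Scheme.Hom.resLE_comp_ι] at sq
  let l : pullback g ((z ≫ R.hom) ∣_ (V : S.Opens)) ⟶ pullback (z ≫ R.hom) f := pullback.lift _ (pullback.fst _ _ ≫ W.ι)
    (sq.w.trans (Category.assoc _ _ _).symm)
  have sq' : IsPullback l (pullback.fst g _) (pullback.snd (z ≫ R.hom) f) W.ι :=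
    IsPullback.of_right (by rw [pullback.lift_fst]; exact sq) (pullback.lift_snd _ _ _) (IsPullback.of_hasPullback _ _)
  exact MorphismProperty.of_isPullback sq' hS'

end TwConstLib
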