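import Mathlib
import Groth.Agent.TwConstLib.Const
import Groth.Agent.GeomIntLib.Etale
import Groth.Prelude.Def_Red
import Groth.Prelude.Def_TwC

/-!
# Quasi-isotrivial twisted constant schemes
-/

set_option autoImplicit false
universe u

open CategoryTheory CategoryTheory.Limits AlgebraicGeometry TopologicalSpace Topology

namespace TwConstLib

/-- The data over a member of a trivialising étale covering. -/
theorem exists_chart {S : Scheme.{u}} (P : Over S) (hP : TwC.IsTwConst TwC.Topology.etale P)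
    {Z : Scheme.{u}} (z : Z ⟶ P.left) (s : S) :
    ∃ (S' : Scheme.{u}) (f : S' ⟶ S) (I : Type u) (e : pullback P.hom f ≅ ∐ fun _ : I => S')
      (a : pullback (z ≫ P.hom) f ⟶ pullback P.hom f),
      Etale f ∧ s ∈ Set.range f.base ∧
      e.hom ≫ Sigma.desc (fun _ => 𝟙 S') = pullback.snd P.hom f ∧
      IsPullback (pullback.fst (z ≫ P.hom) f) a z (pullback.fst P.hom f) ∧
      a ≫ pullback.snd P.hom f = pullback.snd (z ≫ P.hom) f := by
  obtain ⟨S', f, hf, hs, I, ⟨e⟩⟩ := hP s
  let a : pullback (z ≫ P.hom) f ⟶ pullback P.hom f :=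
    pullback.lift (pullback.fst _ _ ≫ z) (pullback.snd _ _) (by rw [Category.assoc]; exact pullback.condition)
  refine ⟨S', f, I, (Over.forget _).mapIso e, a, hf, hs, Over.w e.hom, ?_, pullback.lift_snd _ _ _⟩
  refine IsPullback.of_bot ?_ (pullback.lift_fst _ _ _).symm (IsPullback.of_hasPullback P.hom f)
  rw [pullback.lift_snd]
  exact IsPullback.of_hasPullback _ _

/-- The pieces of an open and closed subscheme of a constant scheme map to open and closed subsets. -/
theorem isClopen_image_piece {T : Scheme.{u}} {I : Type u} {Z : Scheme.{u}} (z : Z ⟶ ∐ fun _ : I => T)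
    [IsOpenImmersion z] [IsClosedImmersion z] (i : I) :
    IsClopen ((z ≫ Sigma.desc fun _ => 𝟙 T).base ''
      (z ⁻¹ᵁ (Sigma.ι (fun _ : I => T) i).opensRange : Z.Opens)) ∧
    Set.InjOn (z ≫ Sigma.desc fun _ => 𝟙 T).base (z ⁻¹ᵁ (Sigma.ι (fun _ : I => T) i).opensRange : Z.Opens) := by
  let W := z ⁻¹ᵁ (Sigma.ι (fun _ : I => T) i).opensRange
  let h := z ≫ Sigma.desc fun _ : I => 𝟙 T
  let s := Sigma.ι (fun _ : I => T) i
  haveI hi : IsIso (s.opensRange.ι ≫ Sigma.desc fun _ : I => 𝟙 T) := by
    have e : s.opensRange.ι ≫ Sigma.desc (fun _ : I => 𝟙 T) = s.isoOpensRange.inv := by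
      rw [← Iso.cancel_iso_hom_left s.isoOpensRange, Scheme.Hom.isoOpensRange_hom_ι_assoc, Iso.hom_inv_id]
      exact Sigma.ι_desc _ _
    rw [e]
    infer_instance
  have hco : W.ι ≫ h = (z ∣_ s.opensRange) ≫ s.opensRange.ι ≫ Sigma.desc fun _ : I => 𝟙 T := by
    rw [← Category.assoc (z ∣_ _), morphismRestrict_ι, Category.assoc]
  haveI : IsOpenImmersion (W.ι ≫ h) := by rw [hco]; infer_instance
  haveI : IsClosedImmersion (W.ι ≫ h) := by rw [hco]; infer_instance
  have hr : h.base '' (W : Set Z) = Set.range (W.ι ≫ h).base := by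
    rw [← Scheme.Opens.range_ι W, ← Set.range_comp]; rfl
  refine ⟨?_, fun p hp q hq hpq => ?_⟩
  · show IsClopen (h.base '' (W : Set Z))
    rw [hr]
    exact ⟨(W.ι ≫ h).isClosedEmbedding.isClosed_range, (W.ι ≫ h).isOpenEmbedding.isOpen_range⟩
  · have := (W.ι ≫ h).isOpenEmbedding.injective (a₁ := ⟨p, hp⟩) (a₂ := ⟨q, hq⟩) hpq
    exact congrArg Subtype.val this

/-- Over a locally connected base the number of points in the fibres of an open and closed subscheme of a
constant scheme is locally constant; finite fibres give finiteness. -/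
theorem fibres_of_clopen_const {T : Scheme.{u}} [LocallyConnectedSpace T] {I : Type u} {Z : Scheme.{u}}
    (z : Z ⟶ ∐ fun _ : I => T) [IsOpenImmersion z] [IsClosedImmersion z] :
    IsClopen {t : T | ((z ≫ Sigma.desc fun _ => 𝟙 T).base ⁻¹' {t}).Finite} ∧
      ((∀ t : T, ((z ≫ Sigma.desc fun _ => 𝟙 T).base ⁻¹' {t}).Finite) →
        IsFinite (z ≫ Sigma.desc fun _ => 𝟙 T)) := by
  let W : I → Z.Opens := fun i => z ⁻¹ᵁ (Sigma.ι (fun _ : I => T) i).opensRange
  let h := z ≫ Sigma.desc fun _ : I => 𝟙 T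
  have hd : ∀ i j, i ≠ j → Disjoint (W i) (W j) := fun i j hij => disjoint_iff.mpr (by
    show z ⁻¹ᵁ _ ⊓ z ⁻¹ᵁ _ = ⊥
    rw [← Scheme.Hom.preimage_inf, disjoint_iff.mp (disjoint_opensRange_sigmaι _ i j hij)]; rfl)
  have hcov : ∀ p : Z, ∃ i, p ∈ W i := fun p => mem_range_sigmaι (z p)
  let K : T → Set I := fun t => {i | t ∈ h.base '' (W i : Set Z)}
  have hKmem : ∀ t t', t' ∈ connectedComponent t → K t' = K t := by
    intro t t' ht
    ext i
    have hc := (isClopen_image_piece z i).1
    exact ⟨fun hi => hc.connectedComponent_subset hi (connectedComponent_eq ht ▸ mem_connectedComponent),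
      fun hi => hc.connectedComponent_subset hi ht⟩
  have hfib : ∀ t, (h.base ⁻¹' {t}).Finite ↔ (K t).Finite := by
    intro t
    constructor
    · intro hf
      refine Set.Finite.subset (hf.image fun p => (hcov p).choose) ?_
      rintro i ⟨p, hp, hpt⟩
      refine ⟨p, hpt, ?_⟩
      by_contra hne
      exact Set.disjoint_left.mp (Opens.coe_disjoint.mpr (hd _ _ hne)) (hcov p).choose_spec hp
    · intro hf
      refine Set.Finite.subset (hf.biUnion' fun i _ => (?_ : ((W i : Set Z) ∩ h.base ⁻¹' {t}).Finite)) ?_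
      · refine Set.Subsingleton.finite fun p hp q hq => (isClopen_image_piece z i).2 hp.1 hq.1 ?_
        exact (hp.2 : h.base p = t).trans (hq.2 : h.base q = t).symm
      · intro p hp
        obtain ⟨i, hi⟩ := hcov p
        exact Set.mem_iUnion₂.mpr ⟨i, ⟨p, hi, hp⟩, hi, hp⟩
  refine ⟨?_, fun hall => ?_⟩
  · have hset : ∀ t : T, connectedComponent t ⊆ {t' : T | (h.base ⁻¹' {t'}).Finite} ∨
        connectedComponent t ⊆ {t' : T | (h.base ⁻¹' {t'}).Finite}ᶜ := by
      intro t
      by_cases hK : (K t).Finite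
      · exact Or.inl fun t' ht' => (hfib t').mpr (hKmem t t' ht' ▸ hK)
      · exact Or.inr fun t' ht' hf => hK (hKmem t t' ht' ▸ (hfib t').mp hf)
    refine ⟨⟨isOpen_iff_forall_mem_open.mpr fun t ht => ?_⟩, isOpen_iff_forall_mem_open.mpr fun t ht => ?_⟩
    · refine ⟨connectedComponent t, (hset t).resolve_left fun hc => ht (hc mem_connectedComponent),
        isOpen_connectedComponent, mem_connectedComponent⟩
    · refine ⟨connectedComponent t, (hset t).resolve_right fun hc => hc mem_connectedComponent ht,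
        isOpen_connectedComponent, mem_connectedComponent⟩
  · refine isFinite_of_locallyFinite h W hcov hd (isFinite_piece z) fun t => ?_
    refine ⟨⟨connectedComponent t, isOpen_connectedComponent⟩, mem_connectedComponent, ?_⟩
    refine ((hfib t).mp (hall t)).subset fun i hi => ?_
    obtain ⟨p, hp, hpt⟩ := hi
    exact hKmem t _ hpt ▸ ⟨p, hp, rfl⟩

theorem locallyConnectedSpace_of_isLocallyNoetherian (X : Scheme.{u}) [IsLocallyNoetherian X] :
    LocallyConnectedSpace X := by
  refine locallyConnectedSpace_iff_connectedComponentIn_open.mpr fun F hF p _ => ?_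
  refine isOpen_iff_forall_mem_open.mpr fun q hq => ?_
  obtain ⟨U, hqU, hUF, hU⟩ := EquidimLib.exists_open_max_through q ⟨F, hF⟩ (connectedComponentIn_subset F p hq)
  refine ⟨U, fun r hr => ?_, U.isOpen, hqU⟩
  obtain ⟨ζ, hζ, hζr⟩ := DvrDomLib.exists_generic_specializes r
  have hζU : ζ ∈ U := hζr.mem_open U.isOpen hr
  have hζq : ζ ⤳ q := hU ζ hζU hζ
  let C : Set X := closure {ζ} ∩ F
  have hζF : ζ ∈ F := hUF hζU
  have hC : _root_.IsPreconnected C := (_root_.isPreconnected_singleton (x := ζ)).subset_closure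
    (Set.singleton_subset_iff.mpr ⟨subset_closure rfl, hζF⟩) Set.inter_subset_left
  have h1 := hC.subset_connectedComponentIn (x := q) ⟨hζq.mem_closure, connectedComponentIn_subset F p hq⟩
    Set.inter_subset_right
  rw [connectedComponentIn_eq hq] 
  exact h1 ⟨hζr.mem_closure, hUF hr⟩

section

variable {S : Scheme.{u}} [IsLocallyNoetherian S] (P : Over S) (hP : TwC.IsTwConst TwC.Topology.etale P)
  {Z : Scheme.{u}} (z : Z ⟶ P.left) [IsOpenImmersion z] [IsClosedImmersion z]

include hP

theorem isClopen_finite_fibre : IsClopen {s : S | ((z ≫ P.hom).base ⁻¹' {s}).Finite} := by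
  have key : ∀ s : S, ∃ U : Set S, IsOpen U ∧ s ∈ U ∧
      (U ⊆ {s : S | ((z ≫ P.hom).base ⁻¹' {s}).Finite} ∨ U ⊆ {s : S | ((z ≫ P.hom).base ⁻¹' {s}).Finite}ᶜ) := by
    intro s
    obtain ⟨S', f, I, e, a, hf, ⟨s', hs'⟩, he, sq, ha⟩ := exists_chart P hP z s
    haveI := hf
    haveI := WeightLib.locallyQuasiFinite_of_etale f
    haveI : IsLocallyNoetherian S' := LocallyOfFiniteType.isLocallyNoetherian f
    haveI := locallyConnectedSpace_of_isLocallyNoetherian S'
    haveI : IsOpenImmersion a := MorphismProperty.of_isPullback sq inferInstance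
    haveI : IsClosedImmersion a := MorphismProperty.of_isPullback sq inferInstance
    let c := a ≫ e.hom
    haveI : IsOpenImmersion c := inferInstance
    haveI : IsClosedImmersion c := inferInstance
    have hc : c ≫ Sigma.desc (fun _ => 𝟙 S') = pullback.snd (z ≫ P.hom) f := by
      rw [Category.assoc, he, ha]
    have hcl := (fibres_of_clopen_const c).1
    rw [hc] at hcl
    obtain ⟨V, hV, hsV, -⟩ := exists_isAffineOpen_mem_and_subset (X := S') (x := s') (U := ⊤) trivial
    have hiff : ∀ v ∈ V, ((pullback.snd (z ≫ P.hom) f).base ⁻¹' {v}).Finite ↔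
        ((z ≫ P.hom).base ⁻¹' {f v}).Finite := by
      intro v hv
      let fst := pullback.fst (z ≫ P.hom) f
      let snd := pullback.snd (z ≫ P.hom) f
      constructor
      · intro hfin
        refine (hfin.image fst.base).subset fun q hq => ?_
        obtain ⟨w, hw1, hw2⟩ := Scheme.Pullback.exists_preimage_pullback (f := z ≫ P.hom) (g := f) q v hq
        exact ⟨w, hw2, hw1⟩
      · intro hfin
        haveI : CompactSpace (V : Scheme.{u}) := isCompact_iff_compactSpace.mp (IsAffineOpen.isCompact hV)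
        haveI : QuasiSeparatedSpace S := inferInstance
        haveI : QuasiCompact (V.ι ≫ f) := quasiCompact_of_compactSpace _
        let P' := snd ⁻¹ᵁ V
        have sq' : IsPullback (P'.ι ≫ fst) (snd ∣_ V) (z ≫ P.hom) (V.ι ≫ f) :=
          (isPullback_morphismRestrict snd V).flip.paste_horiz (IsPullback.of_hasPullback _ _)
        haveI : QuasiCompact (P'.ι ≫ fst) := MorphismProperty.of_isPullback sq'.flip inferInstance
        haveI : LocallyQuasiFinite (P'.ι ≫ fst) := MorphismProperty.of_isPullback sq'.flip inferInstance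
        refine Set.Finite.subset ((hfin.preimage' fun q _ => (P'.ι ≫ fst).finite_preimage_singleton q).image
          P'.ι.base) fun w hw => ?_
        have hwV : w ∈ P' := show snd w ∈ V from (hw : snd w = v).symm ▸ hv
        refine ⟨⟨w, hwV⟩, ?_, rfl⟩
        show (z ≫ P.hom) (fst w) = f v
        rw [← Scheme.Hom.comp_apply, pullback.condition, Scheme.Hom.comp_apply]
        exact congrArg f hw
    by_cases hfin : ((pullback.snd (z ≫ P.hom) f).base ⁻¹' {s'}).Finite
    · refine ⟨f.base '' ((V : Set S') ∩ {v | ((pullback.snd (z ≫ P.hom) f).base ⁻¹' {v}).Finite}),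
        f.isOpenMap _ (V.isOpen.inter hcl.2), ⟨s', ⟨hsV, hfin⟩, hs'⟩, Or.inl ?_⟩
      rintro _ ⟨v, ⟨hv, hvf⟩, rfl⟩
      exact (hiff v hv).mp hvf
    · refine ⟨f.base '' ((V : Set S') ∩ {v | ((pullback.snd (z ≫ P.hom) f).base ⁻¹' {v}).Finite}ᶜ),
        f.isOpenMap _ (V.isOpen.inter hcl.1.isOpen_compl), ⟨s', ⟨hsV, hfin⟩, hs'⟩, Or.inr ?_⟩
      rintro _ ⟨v, ⟨hv, hvf⟩, rfl⟩
      exact fun h => hvf ((hiff v hv).mpr h)
  refine ⟨⟨isOpen_iff_forall_mem_open.mpr fun s hs => ?_⟩, isOpen_iff_forall_mem_open.mpr fun s hs => ?_⟩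
  all_goals obtain ⟨U, hU, hsU, hor⟩ := key s
  · exact ⟨U, hor.resolve_left fun h => hs (h hsU), hU, hsU⟩
  · exact ⟨U, hor.resolve_right fun h => h hsU hs, hU, hsU⟩

theorem isFinite_of_finite_fibres (hall : ∀ s : S, ((z ≫ P.hom).base ⁻¹' {s}).Finite) :
    IsFinite (z ≫ P.hom) := by
  choose S' f I e a hf hrange he sq ha using fun s => exists_chart P hP z s
  choose s' hs' using hrange
  have hV : ∀ s, ∃ V : (S' s).Opens, IsAffineOpen V ∧ s' s ∈ V := fun s => by
    obtain ⟨_, ⟨V, hV, rfl⟩, hsV, -⟩ :=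
      (S' s).isBasis_affineOpens.exists_subset_of_mem_open (Set.mem_univ (s' s)) isOpen_univ
    exact ⟨V, hV, hsV⟩
  choose V hVa hsV using hV
  have hopen : ∀ s, IsOpen ((f s).base '' (V s : Set (S' s))) := fun s => by
    haveI := hf s
    exact (f s).isOpenMap _ (V s).isOpen
  let U : S → S.Opens := fun s => ⟨(f s).base '' (V s : Set (S' s)), hopen s⟩
  refine IsZariskiLocalAtTarget.of_iSup_eq_top (P := @IsFinite) U
    (top_le_iff.mp fun s _ => Opens.mem_iSup.mpr ⟨s, s' s, hsV s, hs' s⟩) fun s => ?_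
  haveI := hf s
  haveI := WeightLib.locallyQuasiFinite_of_etale (f s)
  haveI : IsLocallyNoetherian (S' s) := LocallyOfFiniteType.isLocallyNoetherian (f s)
  haveI := locallyConnectedSpace_of_isLocallyNoetherian (S' s)
  haveI : IsOpenImmersion (a s) := MorphismProperty.of_isPullback (sq s) inferInstance
  haveI : IsClosedImmersion (a s) := MorphismProperty.of_isPullback (sq s) inferInstance
  let c := a s ≫ (e s).hom
  haveI : IsOpenImmersion c := inferInstance
  haveI : IsClosedImmersion c := inferInstance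
  have hc : c ≫ Sigma.desc (fun _ => 𝟙 (S' s)) = pullback.snd (z ≫ P.hom) (f s) := by
    rw [Category.assoc, he s, ha s]
  let h := z ≫ P.hom
  let fst := pullback.fst h (f s)
  let snd := pullback.snd h (f s)
  haveI : CompactSpace (V s : Scheme.{u}) := isCompact_iff_compactSpace.mp (IsAffineOpen.isCompact (hVa s))
  have hle : V s ≤ (f s) ⁻¹ᵁ U s := fun v hv => ⟨v, hv, rfl⟩
  let g := (f s).resLE (U s) (V s) hle
  haveI : Etale g := IsZariskiLocalAtSource.resLE _ ‹_›
  haveI : Surjective g := ⟨fun v => by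
    obtain ⟨w, hw, hwv⟩ := v.2
    refine ⟨⟨w, hw⟩, Subtype.ext ?_⟩
    show (U s).ι (g ⟨w, hw⟩) = v.1
    rw [← Scheme.Hom.comp_apply, Scheme.Hom.resLE_comp_ι]
    exact hwv⟩
  haveI : QuasiCompact g := quasiCompact_of_compactSpace g
  haveI hsnd : IsFinite snd := by
    show IsFinite (pullback.snd (z ≫ P.hom) (f s))
    rw [← hc]
    haveI : QuasiSeparatedSpace S := inferInstance
    refine (fibres_of_clopen_const c).2 fun t => ?_
    rw [hc]
    obtain ⟨W, hW, htW, -⟩ := exists_isAffineOpen_mem_and_subset (X := S' s) (x := t) (U := ⊤) trivial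
    haveI : CompactSpace (W : Scheme.{u}) := isCompact_iff_compactSpace.mp (IsAffineOpen.isCompact hW)
    haveI : QuasiCompact (W.ι ≫ f s) := quasiCompact_of_compactSpace _
    let P' := snd ⁻¹ᵁ W
    have sq' : IsPullback (P'.ι ≫ fst) (snd ∣_ W) h (W.ι ≫ f s) :=
      (isPullback_morphismRestrict snd W).flip.paste_horiz (IsPullback.of_hasPullback _ _)
    haveI : QuasiCompact (P'.ι ≫ fst) := MorphismProperty.of_isPullback sq'.flip inferInstance
    haveI : LocallyQuasiFinite (P'.ι ≫ fst) := MorphismProperty.of_isPullback sq'.flip inferInstance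
    refine Set.Finite.subset (((hall (f s t)).preimage' fun q _ => (P'.ι ≫ fst).finite_preimage_singleton q).image
      P'.ι.base) fun w hw => ?_
    have hwV : w ∈ P' := show snd w ∈ W from (hw : snd w = t).symm ▸ htW
    refine ⟨⟨w, hwV⟩, ?_, rfl⟩
    show h (fst w) = f s t
    rw [← Scheme.Hom.comp_apply, pullback.condition, Scheme.Hom.comp_apply]
    exact congrArg (f s) hw
  refine MorphismProperty.of_isPullback_of_descendsAlong (P := @IsFinite) (Q := @Surjective ⊓ @Flat ⊓ @QuasiCompact)
    (IsPullback.of_hasPullback g (h ∣_ U s)) ⟨⟨‹_›, inferInstance⟩, ‹_›⟩ ?_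
  have sq₁ := (IsPullback.of_hasPullback g (h ∣_ U s)).flip.paste_horiz (isPullback_morphismRestrict h (U s)).flip
  rw [Scheme.Hom.resLE_comp_ι] at sq₁
  let l : pullback g (h ∣_ U s) ⟶ pullback h (f s) := pullback.lift _ (pullback.fst _ _ ≫ (V s).ι)
    (sq₁.w.trans (Category.assoc _ _ _).symm)
  have sq₂ : IsPullback l (pullback.fst g _) snd (V s).ι :=
    IsPullback.of_right (by rw [pullback.lift_fst]; exact sq₁) (pullback.lift_snd _ _ _) (IsPullback.of_hasPullback _ _)
  exact MorphismProperty.of_isPullback sq₂ hsnd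

end

section Components

variable {S : Scheme.{u}} [IsLocallyNoetherian S] (hS : ∀ s : S, CAlg2.IsGeomUnibranch (S.presheaf.stalk s))
  (P : Over S) (hP : TwC.IsTwConst TwC.Topology.etale P)

include hP

/-- Local structure: an étale open cover by schemes étale over the base. -/
theorem exists_etale_cover (p : P.left) : ∃ (B : Scheme.{u}) (π : B ⟶ P.left) (p' : B),
    π p' = p ∧ Etale π ∧ Etale (π ≫ P.hom) := by
  obtain ⟨S', f, I, e, a, hf, ⟨s', hs'⟩, he, -, -⟩ := exists_chart P hP (𝟙 P.left) (P.hom p)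
  haveI := hf
  obtain ⟨p', hp', -⟩ := Scheme.Pullback.exists_preimage_pullback (f := P.hom) (g := f) p s' hs'.symm
  haveI : Etale (Sigma.desc fun _ : I => 𝟙 S') := IsZariskiLocalAtSource.sigmaDesc fun _ => inferInstance
  refine ⟨pullback P.hom f, pullback.fst P.hom f, p', hp', inferInstance, ?_⟩
  rw [pullback.condition, ← he]
  infer_instance

theorem eq_fst_image_max {B : Scheme.{u}} (π : B ⟶ P.left) [Etale π] {b : B}
    (hb : closure {b} ∈ irreducibleComponents (B : Type u)) :
    closure {π b} ∈ irreducibleComponents (P.left : Type u) := by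
  refine FibDimLib.closure_mem_irreducibleComponents_of_max fun w hw => ?_
  obtain ⟨w', hw', rfl⟩ := Flat.generalizingMap π hw
  rw [FibDimLib.eq_of_specializes_of_closure_mem hb hw']

include hS

theorem eq_of_components_twConst {p ξ ξ' : P.left} (hξ : closure {ξ} ∈ irreducibleComponents (P.left : Type u))
    (hξp : ξ ⤳ p) (hξ' : closure {ξ'} ∈ irreducibleComponents (P.left : Type u)) (hξ'p : ξ' ⤳ p) : ξ = ξ' := by
  obtain ⟨B, π, p', rfl, hπ, hBS⟩ := exists_etale_cover P hP p
  haveI := hπ; haveI := hBS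
  obtain ⟨a, ha, rfl⟩ := Flat.generalizingMap π hξp
  obtain ⟨b, hb, rfl⟩ := Flat.generalizingMap π hξ'p
  obtain ⟨m, hm, hma⟩ := DvrDomLib.exists_generic_specializes a
  obtain ⟨m', hm', hmb⟩ := DvrDomLib.exists_generic_specializes b
  rw [← FibDimLib.eq_of_specializes_of_closure_mem hξ (hma.map π.continuous),
    ← FibDimLib.eq_of_specializes_of_closure_mem hξ' (hmb.map π.continuous),
    GeomIntLib.eq_of_components_etale (π ≫ P.hom) p' (hS _) hm (hma.trans ha) hm' (hmb.trans hb)]

/-- The closure of a generic point is open. -/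
theorem isOpen_component {ξ : P.left} (hξ : closure {ξ} ∈ irreducibleComponents (P.left : Type u)) :
    IsOpen (closure {ξ}) := by
  refine isOpen_iff_forall_mem_open.mpr fun q hq => ?_
  obtain ⟨B, π, q', rfl, hπ, hBS⟩ := exists_etale_cover P hP q
  haveI := hπ; haveI := hBS
  haveI : IsLocallyNoetherian B := LocallyOfFiniteType.isLocallyNoetherian (π ≫ P.hom)
  obtain ⟨U, hqU, -, hU⟩ := EquidimLib.exists_open_max_through q' ⊤ trivial
  refine ⟨π.base '' U, ?_, π.isOpenMap _ U.isOpen, ⟨q', hqU, rfl⟩⟩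
  rintro _ ⟨r, hr, rfl⟩
  obtain ⟨m, hm, hmr⟩ := DvrDomLib.exists_generic_specializes r
  have hmq := (hU m (hmr.mem_open U.isOpen hr) hm).map π.continuous
  have hπm := eq_fst_image_max P hP π hm
  rw [eq_of_components_twConst hS P hP hξ (specializes_iff_mem_closure.mpr hq) hπm hmq]
  exact (hmr.map π.continuous).mem_closure

/-- Connected components are the closures of the generic points, and are finite over the base. -/
theorem exists_component (x : P.left) :
    ∃ U : P.left.Opens, (U : Set P.left) = connectedComponent x ∧ IsFinite (U.ι ≫ P.hom) := by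
  obtain ⟨ξ, hξ, hξx⟩ := DvrDomLib.exists_generic_specializes x
  have hcl : IsClopen (closure ({ξ} : Set P.left)) := ⟨isClosed_closure, isOpen_component hS P hP hξ⟩
  have hcc : closure ({ξ} : Set P.left) = connectedComponent x := Set.Subset.antisymm
    ((_root_.isPreconnected_singleton.closure).subset_connectedComponent hξx.mem_closure)
    (hcl.connectedComponent_subset hξx.mem_closure)
  let U : P.left.Opens := ⟨closure {ξ}, hcl.2⟩
  refine ⟨U, hcc, ?_⟩
  haveI : IsClosedImmersion U.ι := IsClosedImmersion.of_isPreimmersion _ (by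
    rw [Scheme.Opens.range_ι]; exact hcl.1)
  obtain ⟨B, π, b, hb, hπ, hBS⟩ := exists_etale_cover P hP ξ
  haveI := hπ; haveI := hBS
  haveI : IsLocallyNoetherian B := LocallyOfFiniteType.isLocallyNoetherian (π ≫ P.hom)
  -- the image of the generic point is maximal
  have hη : closure {P.hom ξ} ∈ irreducibleComponents (S : Type u) := by
    refine FibDimLib.closure_mem_irreducibleComponents_of_max fun w hw => ?_
    rw [← hb, ← Scheme.Hom.comp_apply] at hw ⊢
    obtain ⟨w', hw', rfl⟩ := Flat.generalizingMap (π ≫ P.hom) hw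
    rw [Scheme.Hom.comp_apply, Scheme.Hom.comp_apply,
      FibDimLib.eq_of_specializes_of_closure_mem hξ ((hw'.map π.continuous).trans (specializes_of_eq hb))]
    rw [hb]
  have hone : ∀ q ∈ closure ({ξ} : Set P.left), P.hom q = P.hom ξ → q = ξ := by
    intro q hq heq
    obtain ⟨B', π', q', rfl, hπ', hBS'⟩ := exists_etale_cover P hP q
    haveI := hπ'; haveI := hBS'
    obtain ⟨a, ha, hae⟩ := Flat.generalizingMap π' (specializes_iff_mem_closure.mpr hq)
    haveI := WeightLib.locallyQuasiFinite_of_etale (π' ≫ P.hom)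
    have := GeomIntLib.eq_of_specializes_of_same_image (π' ≫ P.hom) ha (by
      rw [Scheme.Hom.comp_apply, Scheme.Hom.comp_apply, hae, heq])
    rw [← this, hae]
  have hF := isClopen_finite_fibre P hP U.ι
  refine isFinite_of_finite_fibres P hP U.ι fun s => ?_
  rcases Set.eq_empty_or_nonempty ((U.ι ≫ P.hom).base ⁻¹' {s}) with he | ⟨q, hq⟩
  · rw [he]; exact Set.finite_empty
  have hη' : P.hom ξ ∈ {s : S | ((U.ι ≫ P.hom).base ⁻¹' {s}).Finite} := by
    refine (Set.finite_singleton (⟨ξ, subset_closure rfl⟩ : U)).subset fun q hq => ?_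
    exact Subtype.ext (hone q.1 q.2 hq)
  refine hF.connectedComponent_subset hη' ?_
  have hsp : P.hom ξ ⤳ s := by
    rw [← (hq : (U.ι ≫ P.hom) q = s), Scheme.Hom.comp_apply]
    exact (specializes_iff_mem_closure.mpr q.2).map P.hom.continuous
  exact (_root_.isPreconnected_singleton.closure).subset_connectedComponent (subset_closure rfl) hsp.mem_closure

end Components

end TwConstLib
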